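import Cfsg.Agent.Lib.HNSub.Main
import Cfsg.Agent.Lib.CosetEnum.HNP.Final

/-!
The Schur multiplier of the presented Harada-Norton group is trivial: in a stem extension the double cover
of the Higman-Sims group lifts uniquely, `z` lifts to an involution normalising it, and the commutator of
the lifts of `x²` and `t` gives a lift of `t` satisfying the relations.
-/

set_option autoImplicit false
set_option maxRecDepth 20000

namespace Cfsg.Agent.Lib.HNMult40

open Cfsg Cfsg.Agent.Lib.HNSub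
open scoped commutatorElement

/-- A canonical element in the preimage of a cyclic group inverted by an involution. -/
theorem canon {E : Type*} [Group E] {c t a0 : E} (hc : c * c = 1) (ha0 : ∀ g, Commute a0 g)
    (ht5 : ∀ g, Commute (t ^ 5) g) (hct : c⁻¹ * t * c = t ^ 4 * a0) :
    (c⁻¹ * t⁻¹ * c * t) ^ 5 = 1 ∧ c⁻¹ * (c⁻¹ * t⁻¹ * c * t) * c = (c⁻¹ * t⁻¹ * c * t)⁻¹ ∧
    ∀ (k a : E) (n : ℕ), Commute k c → (∀ g, Commute a g) → k⁻¹ * t * k = t ^ n * a →
      k⁻¹ * (c⁻¹ * t⁻¹ * c * t) * k = (c⁻¹ * t⁻¹ * c * t) ^ n := by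
  have hci : c⁻¹ = c := inv_eq_of_mul_eq_one_right hc
  have hcomm : Commute (c⁻¹ * t⁻¹ * c) t := by
    rw [show c⁻¹ * t⁻¹ * c = (c⁻¹ * t * c)⁻¹ by group, hct]
    exact ((Commute.pow_left (Commute.refl t) 4).mul_left (ha0 t)).inv_left
  have hpow : ∀ n : ℕ, (c⁻¹ * t⁻¹ * c) ^ n = c⁻¹ * (t⁻¹) ^ n * c := fun n => by
    have := conj_pow (a := c⁻¹) (b := t⁻¹) (i := n)
    rwa [inv_inv] at this
  refine ⟨?_, ?_, fun k a n hkc ha hk => ?_⟩
  · rw [hcomm.mul_pow, hpow, inv_pow, mul_assoc c⁻¹, ((ht5 c).inv_left).eq, inv_mul_cancel_left,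
      inv_mul_cancel]
  · have h1 : c⁻¹ * (c⁻¹ * t⁻¹ * c * t) * c = (c * c)⁻¹ * t⁻¹ * (c * c) * (c⁻¹ * t * c) := by group
    rw [h1, hc, inv_one, one_mul, mul_one, mul_inv_rev, mul_inv_rev, mul_inv_rev, inv_inv, inv_inv]
    simp [mul_assoc]
  · have h1 : k⁻¹ * (c⁻¹ * t⁻¹ * c * t) * k = c⁻¹ * (k⁻¹ * t * k)⁻¹ * c * (k⁻¹ * t * k) := by
      rw [show k⁻¹ * (c⁻¹ * t⁻¹ * c * t) * k =
        (k⁻¹ * c⁻¹) * t⁻¹ * (k * k⁻¹) * (c * t) * k by group,
        show k⁻¹ * c⁻¹ = c⁻¹ * k⁻¹ from (hkc.inv_left.inv_right).eq,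
        show c⁻¹ * k⁻¹ * t⁻¹ * (k * k⁻¹) * (c * t) * k = c⁻¹ * (k⁻¹ * t⁻¹ * k) * (k⁻¹ * c) * t * k by group,
        show k⁻¹ * c = c * k⁻¹ from hkc.inv_left.eq]
      group
    rw [h1, hk, hcomm.mul_pow, hpow, inv_pow]
    have e : c⁻¹ * (t ^ n * a)⁻¹ * c = a⁻¹ * (c⁻¹ * (t ^ n)⁻¹ * c) := by
      rw [mul_inv_rev, ← mul_assoc c⁻¹ a⁻¹, ← ((ha c⁻¹).inv_left).eq]
      simp only [mul_assoc]
    rw [e, show c⁻¹ * (t ^ n)⁻¹ * c * t ^ n = (c⁻¹ * (t ^ n)⁻¹ * c) * t ^ n from rfl]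
    rw [mul_assoc, ← mul_assoc (c⁻¹ * (t ^ n)⁻¹ * c), ← (ha _).eq, inv_mul_cancel_left]

theorem toHN_C0 : toHN C0 = (PresentedGroup.of Spor.HN.Gen.x : Spor.HN) ^ 2 := by
  rw [map_pow, toHN, liftF_X]

theorem commutator_central {E : Type*} [Group E] {a b : E} (ha : ∀ g, Commute a g) (hb : ∀ g, Commute b g)
    (p q : E) : ⁅a * p, b * q⁆ = ⁅p, q⁆ := by
  simp only [commutatorElement_def, mul_inv_rev]
  calc a * p * (b * q) * (p⁻¹ * a⁻¹) * (q⁻¹ * b⁻¹)
      = a * (p * (b * q) * p⁻¹) * a⁻¹ * (q⁻¹ * b⁻¹) := by group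
    _ = p * (b * (q * p⁻¹ * q⁻¹)) * b⁻¹ := by rw [(ha _).eq]; group
    _ = p * q * p⁻¹ * q⁻¹ := by rw [(hb _).eq]; group

section Ext

variable {E : Type} [Group E] [Finite E] (φ : E →* Spor.HN) (hsurj : Function.Surjective φ)
  (hcen : φ.ker ≤ Subgroup.center E)

/-- The perfect part of the preimage of the double cover. -/
noncomputable def W : Subgroup E := ⁅(G1.map toHN).comap φ, (G1.map toHN).comap φ⁆

theorem W_normalised {g : E} {f : F} (hg : φ g = toHN f) {w : E} (hw : w ∈ W φ) :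
    g * w * g⁻¹ ∈ W φ := by
  have hW0 : ((G1.map toHN).comap φ).map (MulAut.conj g).toMonoidHom ≤ (G1.map toHN).comap φ := by
    rintro _ ⟨v, hv, rfl⟩
    obtain ⟨u, hu, he⟩ := hv
    refine ⟨f * u * f⁻¹, (inferInstance : G1.Normal).conj_mem u hu f, ?_⟩
    change _ = φ (g * v * g⁻¹)
    rw [map_mul, map_mul, map_mul, map_mul, map_inv, map_inv, hg, he]
  have := Subgroup.mem_map_of_mem (MulAut.conj g).toMonoidHom hw
  rw [W, Subgroup.map_commutator] at this
  exact Subgroup.commutator_mono hW0 hW0 this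

include hsurj hcen

theorem W_map : (W φ).map φ = G1.map toHN := by
  rw [W, Subgroup.map_commutator, Subgroup.map_comap_eq_self_of_surjective hsurj,
    ← Subgroup.map_commutator, G1_perfect]

theorem W_perfect : ⁅W φ, W φ⁆ = W φ := by
  refine le_antisymm (Subgroup.commutator_le.2 fun u hu v hv => ?_) (Subgroup.commutator_le.2 fun u hu v hv => ?_)
  · rw [commutatorElement_def]
    exact (W φ).mul_mem ((W φ).mul_mem ((W φ).mul_mem hu hv) ((W φ).inv_mem hu)) ((W φ).inv_mem hv)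
  · have hsplit : ∀ u ∈ (G1.map toHN).comap φ, ∃ w ∈ W φ, ∀ g, Commute (w⁻¹ * u) g := by
      intro u hu
      have : φ u ∈ (W φ).map φ := by rw [W_map φ hsurj hcen]; exact hu
      obtain ⟨w, hw, he⟩ := this
      refine ⟨w, hw, fun g => (Subgroup.mem_center_iff.1 (hcen ?_) g).symm⟩
      rw [MonoidHom.mem_ker, map_mul, map_inv, he, inv_mul_cancel]
    obtain ⟨w, hw, hwc⟩ := hsplit u hu
    obtain ⟨w', hw', hwc'⟩ := hsplit v hv
    have : ⁅u, v⁆ = ⁅w, w'⁆ := by
      have hu' : u = w * (w⁻¹ * u) := (mul_inv_cancel_left _ _).symm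
      have hv' : v = w' * (w'⁻¹ * v) := (mul_inv_cancel_left _ _).symm
      generalize w⁻¹ * u = a at hu' hwc
      generalize w'⁻¹ * v = b at hv' hwc'
      subst hu' hv'
      simp only [commutatorElement_def, mul_inv_rev]
      calc w * a * (w' * b) * (a⁻¹ * w⁻¹) * (b⁻¹ * w'⁻¹)
          = w * (a * (w' * b)) * a⁻¹ * (w⁻¹ * b⁻¹) * w'⁻¹ := by group
        _ = w * w' * (b * (w⁻¹ * b⁻¹)) * w'⁻¹ := by rw [(hwc (w' * b)).eq]; group
        _ = _ := by rw [← mul_assoc b, (hwc' w⁻¹).eq]; group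
    rw [this]
    exact Subgroup.commutator_mem_commutator hw hw'

/-- The map of the perfect part onto the double cover. -/
noncomputable def tau : W φ →* G1 :=
  (G1.equivMapOfInjective toHN toHN_injective).symm.toMonoidHom.comp
    ((φ.comp (W φ).subtype).codRestrict _ fun w => by
      rw [← W_map φ hsurj hcen]; exact ⟨w, w.2, rfl⟩)

theorem toHN_tau (w : W φ) : toHN (tau φ hsurj hcen w : F) = φ w.1 := by
  set e := G1.equivMapOfInjective toHN toHN_injective
  have h : ∀ u : G1.map toHN, toHN ((e.symm u : G1) : F) = u.1 := fun u => by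
    conv_rhs => rw [← e.apply_symm_apply u]
    rfl
  exact h _

theorem tau_injective : Function.Injective (tau φ hsurj hcen) := by
  set τ := tau φ hsurj hcen with hτdef
  have hτsurj : Function.Surjective τ := by
    intro g
    have : toHN g.1 ∈ (W φ).map φ := by rw [W_map φ hsurj hcen]; exact ⟨g.1, g.2, rfl⟩
    obtain ⟨w, hw, he⟩ := this
    exact ⟨⟨w, hw⟩, Subtype.ext (toHN_injective ((toHN_tau φ hsurj hcen _).trans he))⟩
  set σ := sigma.comp τ with hσdef
  have hperf : commutator (W φ) = ⊤ := by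
    refine Subgroup.map_injective (W φ).subtype_injective ?_
    rw [Subgroup.map_subtype_commutator, W_perfect φ hsurj hcen, ← MonoidHom.range_eq_map,
      Subgroup.range_subtype]
  have hcentral : σ.ker ≤ Subgroup.center (W φ) := by
    intro w hw
    have hτw : τ w ∈ Subgroup.center G1 := by rw [center_eq]; exact hw
    have hcomm : ∀ v : W φ, ∀ g : W φ, Commute ⁅w, v⁆ g := by
      intro v g
      have h1 : τ ⁅w, v⁆ = 1 := by
        rw [map_commutatorElement]
        exact commutatorElement_eq_one_iff_mul_comm.2 (Subgroup.mem_center_iff.1 hτw _).symm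
      have h2 : φ (⁅w, v⁆ : W φ).1 = 1 := by rw [← toHN_tau φ hsurj hcen, ← hτdef, h1]; simp
      exact Subtype.ext ((Subgroup.mem_center_iff.1 (hcen (MonoidHom.mem_ker.2 h2)) g.1).symm)
    let f : W φ →* Subgroup.center (W φ) :=
      { toFun := fun v => ⟨⁅w, v⁆, Subgroup.mem_center_iff.2 fun g => ((hcomm v g).eq).symm⟩
        map_one' := Subtype.ext (by simp)
        map_mul' := fun a b => Subtype.ext (by
          change ⁅w, a * b⁆ = ⁅w, a⁆ * ⁅w, b⁆
          have h := (hcomm b a).eq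
          calc ⁅w, a * b⁆ = ⁅w, a⁆ * (a * ⁅w, b⁆ * a⁻¹) := by simp only [commutatorElement_def]; group
            _ = _ := by rw [← h]; group) }
    refine Subgroup.mem_center_iff.2 fun g => ?_
    have hker : commutator (W φ) ≤ f.ker := by
      rw [commutator_def]
      refine Subgroup.commutator_le.2 fun a _ b _ => ?_
      rw [MonoidHom.mem_ker, map_commutatorElement]
      exact commutatorElement_eq_one_iff_mul_comm.2
        (Subtype.ext ((Subgroup.mem_center_iff.1 (f a).2 (f b).1).symm))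
    rw [hperf] at hker
    have hg : f g = 1 := MonoidHom.mem_ker.1 (hker (Subgroup.mem_top g))
    exact (commutatorElement_eq_one_iff_mul_comm.1 (congrArg Subtype.val hg)).symm
  have hstem : IsStemExtension σ :=
    ⟨sigma_surjective.comp hτsurj, hcentral, by rw [hperf]; exact le_top⟩
  obtain ⟨-, hmax⟩ := Co3Model.HS.multiplier_HS
  obtain ⟨π, hπ⟩ := hmax (W φ) σ hstem
  have hle : Nat.card σ.ker ≤ 2 := by
    have := Nat.card_le_card_of_surjective π hπ
    rwa [Nat.card_congr Multiplicative.toAdd, Nat.card_zmod] at this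
  let r : σ.ker → sigma.ker := fun w => ⟨τ w.1, w.2⟩
  have hr : Function.Bijective r := by
    have hrs : Function.Surjective r := fun u => by
      obtain ⟨w, hw⟩ := hτsurj u.1
      refine ⟨⟨w, ?_⟩, Subtype.ext hw⟩
      rw [MonoidHom.mem_ker, hσdef, MonoidHom.comp_apply, hw]
      exact u.2
    have h1 := Nat.card_le_card_of_surjective r hrs
    rw [card_ker] at h1
    exact (Nat.bijective_iff_surjective_and_card r).2 ⟨hrs, by rw [card_ker]; omega⟩
  rw [← MonoidHom.ker_eq_bot_iff, eq_bot_iff]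
  intro w hw
  have h1 : w ∈ σ.ker := by
    rw [MonoidHom.mem_ker, hσdef, MonoidHom.comp_apply, MonoidHom.mem_ker.1 hw, map_one]
  have := hr.1 (a₁ := ⟨w, h1⟩) (a₂ := 1) (Subtype.ext (by
    change τ w = τ (1 : W φ)
    rw [MonoidHom.mem_ker.1 hw, map_one]))
  exact congrArg Subtype.val this

/-- The perfect part meets the kernel trivially. -/
theorem W_inj {w : E} (hw : w ∈ W φ) (h : φ w = 1) : w = 1 := by
  have : tau φ hsurj hcen ⟨w, hw⟩ = 1 :=
    Subtype.ext (toHN_injective (by rw [toHN_tau, h]; simp))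
  exact congrArg Subtype.val (tau_injective φ hsurj hcen (this.trans (map_one _).symm))

theorem exists_lift :
    ∃ A B C T : E, φ A = PresentedGroup.of Spor.HN.Gen.x ∧ φ B = PresentedGroup.of Spor.HN.Gen.y ∧
      φ C = PresentedGroup.of Spor.HN.Gen.z ∧ φ T = PresentedGroup.of Spor.HN.Gen.t ∧ Rels A B C ∧
      T ^ 5 = 1 ∧ A⁻¹ * T * A * T ^ 2 = 1 ∧ T⁻¹ * B⁻¹ * T * B = 1 ∧ (C * T) ^ 3 = 1 := by
  have hlift : ∀ g : G1, ∃ w ∈ W φ, φ w = toHN g.1 := fun g => by
    have : toHN g.1 ∈ (W φ).map φ := by rw [W_map φ hsurj hcen]; exact ⟨g.1, g.2, rfl⟩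
    obtain ⟨w, hw, he⟩ := this
    exact ⟨w, hw, he⟩
  obtain ⟨A, hA, hAx⟩ := hlift ⟨X, X_mem⟩
  obtain ⟨B, hB, hBy⟩ := hlift ⟨Y, Y_mem⟩
  rw [toHN, liftF_X] at hAx
  rw [toHN, liftF_Y] at hBy
  obtain ⟨Z0, hZ0⟩ := hsurj (PresentedGroup.of Spor.HN.Gen.z)
  obtain ⟨t0, ht0⟩ := hsurj (PresentedGroup.of Spor.HN.Gen.t)
  have hc : ∀ {u : E}, φ u = 1 → ∀ g, Commute u g := fun h g =>
    (Subgroup.mem_center_iff.1 (hcen (MonoidHom.mem_ker.2 h)) g).symm
  have hWcomm : ∀ {u : E} {f : F}, φ u = toHN f → Commute u (A * A) := by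
    intro u f hu
    have hm : u * (A * A) * u⁻¹ ∈ W φ := W_normalised φ hu ((W φ).mul_mem hA hA)
    have h1 : u * (A * A) * u⁻¹ * (A * A)⁻¹ = 1 := by
      refine W_inj φ hsurj hcen ((W φ).mul_mem hm ((W φ).inv_mem ((W φ).mul_mem hA hA))) ?_
      have hcen0 := congrArg toHN (Subgroup.mem_center_iff.1 C0_central f)
      rw [map_mul, map_mul, toHN_C0, pow_two] at hcen0
      rw [map_mul, map_mul, map_mul, map_inv, map_inv, map_mul, hu, hAx, hcen0]
      group
    exact mul_inv_eq_iff_eq_mul.1 (mul_inv_eq_one.1 h1)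
  have hAA : (A * A) * (A * A) = 1 := by
    refine W_inj φ hsurj hcen ((W φ).mul_mem ((W φ).mul_mem hA hA) ((W φ).mul_mem hA hA)) ?_
    rw [map_mul, map_mul, hAx, ← pow_two (PresentedGroup.of Spor.HN.Gen.x : Spor.HN), ← toHN_C0,
      ← map_mul, C0_sq, map_one]
  set c := A * A with hcdef
  -- facts in the presented group
  have hxt := CosetEnum.HNP.setting.xt
  rw [show CosetEnum.HNP.setting.π = CosetEnum.HNP.toHN from rfl, CosetEnum.HNP.toHN_val0] at hxt
  change (PresentedGroup.of Spor.HN.Gen.x)⁻¹ * (PresentedGroup.of Spor.HN.Gen.t : Spor.HN) *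
    PresentedGroup.of Spor.HN.Gen.x = (PresentedGroup.of Spor.HN.Gen.t : Spor.HN) ^ 3 at hxt
  have hyt := CosetEnum.HNP.setting.yt
  rw [show CosetEnum.HNP.setting.π = CosetEnum.HNP.toHN from rfl, CosetEnum.HNP.toHN_val2] at hyt
  change (PresentedGroup.of Spor.HN.Gen.y)⁻¹ * (PresentedGroup.of Spor.HN.Gen.t : Spor.HN) *
    PresentedGroup.of Spor.HN.Gen.y = PresentedGroup.of Spor.HN.Gen.t at hyt
  have ht5 : (PresentedGroup.of Spor.HN.Gen.t : Spor.HN) ^ 5 = 1 := CosetEnum.HNP.setting.t5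
  have hzt := CosetEnum.HNP.setting.zt
  rw [show CosetEnum.HNP.setting.π = CosetEnum.HNP.toHN from rfl, CosetEnum.HNP.toHN_val4] at hzt
  change ((PresentedGroup.of Spor.HN.Gen.z : Spor.HN) * PresentedGroup.of Spor.HN.Gen.t) ^ 3 = 1 at hzt
  have hz2 : (PresentedGroup.of Spor.HN.Gen.z : Spor.HN) ^ 2 = 1 := rels_HN.r7
  set xx : Spor.HN := PresentedGroup.of Spor.HN.Gen.x
  set tt : Spor.HN := PresentedGroup.of Spor.HN.Gen.t
  have hxxt : (xx * xx)⁻¹ * tt * (xx * xx) = tt ^ 4 := by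
    calc (xx * xx)⁻¹ * tt * (xx * xx) = xx⁻¹ * (xx⁻¹ * tt * xx) * xx := by group
      _ = (xx⁻¹ * tt * xx) ^ 3 := by
        have h3 := conj_pow (a := xx⁻¹) (b := tt) (i := 3)
        rw [inv_inv] at h3
        rw [h3, hxt]
      _ = tt ^ 4 := by
        rw [hxt, ← pow_mul, show (3 * 3 : ℕ) = 5 + 4 from rfl, pow_add, ht5, one_mul]
  -- the canonical lift
  have hsub : ∀ (k : E) (n : ℕ), φ (k⁻¹ * t0 * k) = tt ^ n →
      ∃ a : E, (∀ g, Commute a g) ∧ k⁻¹ * t0 * k = t0 ^ n * a := fun k n h =>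
    ⟨(t0 ^ n)⁻¹ * (k⁻¹ * t0 * k), hc (by rw [map_mul, map_inv, map_pow, h, ht0, inv_mul_cancel]),
      (mul_inv_cancel_left _ _).symm⟩
  obtain ⟨a0, ha0, hct⟩ := hsub c 4 (by
    rw [map_mul, map_mul, map_inv, ht0, map_mul, hAx]; exact hxxt)
  obtain ⟨hD5, hDc, hDk⟩ := canon hAA ha0 (hc (by rw [map_pow, ht0, ht5])) hct
  set D := c⁻¹ * t0⁻¹ * c * t0 with hDdef
  have hφD : φ D = tt ^ 2 := by
    have h1 : φ (c⁻¹ * t0 * c) = tt ^ 4 := by rw [map_mul, map_mul, map_inv, ht0, map_mul, hAx]; exact hxxt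
    rw [show D = (c⁻¹ * t0 * c)⁻¹ * t0 by rw [hDdef]; group, map_mul, map_inv, h1, ht0]
    refine inv_mul_eq_iff_eq_mul.2 ?_
    rw [← pow_add, show (4 + 2 : ℕ) = 5 + 1 from rfl, pow_add, ht5, one_mul, pow_one]
  set T := D ^ 3 with hTdef
  have hT5 : T ^ 5 = 1 := by rw [hTdef, ← pow_mul, mul_comm, pow_mul, hD5, one_pow]
  have hφT : φ T = tt := by
    rw [hTdef, map_pow, hφD, ← pow_mul, show (2 * 3 : ℕ) = 5 + 1 from rfl, pow_add, ht5, one_mul, pow_one]
  have hAT : A⁻¹ * T * A = T ^ 3 := by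
    obtain ⟨a, ha, hk⟩ := hsub A 3 (by rw [map_mul, map_mul, map_inv, ht0, hAx]; exact hxt)
    have h := hDk A a 3 ((Commute.refl A).mul_right (Commute.refl A)) ha hk
    have h3 := conj_pow (a := A⁻¹) (b := D) (i := 3)
    rw [inv_inv] at h3
    rw [hTdef, ← h3, h]
  have hBT : B⁻¹ * T * B = T := by
    obtain ⟨a, ha, hk⟩ := hsub B 1 (by rw [map_mul, map_mul, map_inv, ht0, hBy, pow_one]; exact hyt)
    have hBc : Commute B c := hWcomm (f := Y) (by rw [toHN, liftF_Y]; exact hBy)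
    have h := hDk B a 1 hBc ha hk
    rw [pow_one] at h
    rw [hTdef]
    conv_rhs => rw [← h]
    simp [pow_succ, mul_assoc]
  have hcT : c⁻¹ * T * c = T⁻¹ := by
    rw [hTdef, ← inv_pow, ← hDc]; simp [pow_succ, mul_assoc]
  -- adjust the lift of z
  have hzZ0 : Commute Z0 c := hWcomm (f := Z) (by rw [toHN, liftF_Z]; exact hZ0)
  have he : ∀ g, Commute (Z0 * Z0) g := hc (by rw [map_mul, hZ0, ← pow_two, hz2])
  set e := Z0 * Z0 with hedef
  have hf : ∀ g, Commute ((Z0 * T) ^ 3) g := hc (by rw [map_pow, map_mul, hZ0, hφT, hzt])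
  set f := (Z0 * T) ^ 3 with hfdef
  have hef : e ^ 3 = f ^ 2 := by
    have h1 : (Z0 * T⁻¹) ^ 3 = f := by
      have h2 : c⁻¹ * (Z0 * T) * c = Z0 * T⁻¹ := by
        rw [show c⁻¹ * (Z0 * T) * c = (c⁻¹ * Z0 * c) * (c⁻¹ * T * c) by group, hcT,
          mul_assoc c⁻¹, hzZ0.eq, inv_mul_cancel_left]
      rw [← h2]
      have := conj_pow (a := c⁻¹) (b := Z0 * T) (i := 3)
      rw [inv_inv] at this
      rw [this, ← hfdef, ((hf c⁻¹).symm).eq, inv_mul_cancel_right]
    have h3 : Z0 * T⁻¹ = (Z0 * (Z0 * T)⁻¹ * Z0⁻¹) * e := by rw [hedef]; group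
    rw [h3, (he _).symm.mul_pow, conj_pow, inv_pow, ← hfdef] at h1
    have h4 : Z0 * f⁻¹ * Z0⁻¹ = f⁻¹ := by rw [← ((hf Z0).inv_left).eq, mul_inv_cancel_right]
    rw [h4, inv_mul_eq_iff_eq_mul, ← pow_two] at h1
    exact h1
  set b := e * f⁻¹ with hbdef
  have hb : ∀ g, Commute b g := fun g => (he g).mul_left (hf g).inv_left
  set C := Z0 * b with hCdef
  have hC2 : C * C = 1 := by
    rw [hCdef, show Z0 * b * (Z0 * b) = Z0 * (b * Z0) * b by group, (hb Z0).eq,
      show Z0 * (Z0 * b) * b = e * (b * b) by rw [hedef]; group, hbdef,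
      ← pow_two, ((he f⁻¹)).mul_pow, ← mul_assoc, ← pow_succ', hef, inv_pow, mul_inv_cancel]
  have hCT : (C * T) ^ 3 = 1 := by
    rw [hCdef, mul_assoc Z0, (hb T).eq, ← mul_assoc, ((hb _).symm).mul_pow, ← hfdef, hbdef,
      (he f⁻¹).mul_pow, hef, inv_pow, ← mul_assoc, ← pow_succ', show (1 + 2 : ℕ) = 3 from rfl,
      mul_inv_cancel]
  have hbφ : φ b = 1 := by
    rw [hbdef, map_mul, map_inv, hedef, map_mul, hZ0, ← pow_two, hz2, hfdef, map_pow, map_mul, hZ0,
      hφT, hzt, inv_one, mul_one]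
  have hCz : φ C = PresentedGroup.of Spor.HN.Gen.z := by rw [hCdef, map_mul, hbφ, mul_one, hZ0]
  -- the group generated by the lifts of x, y, z meets the kernel trivially
  have hCW : ∀ w ∈ W φ, C * w * C⁻¹ ∈ W φ := fun w hw =>
    W_normalised φ (f := Z) (by rw [hCz, toHN, liftF_Z]) hw
  have hCi : C⁻¹ = C := inv_eq_of_mul_eq_one_right hC2
  let S : Subgroup E :=
    { carrier := {u | u ∈ W φ ∨ u * C ∈ W φ}
      one_mem' := Or.inl (W φ).one_mem
      mul_mem' := by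
        rintro u v (hu | hu) (hv | hv)
        · exact Or.inl ((W φ).mul_mem hu hv)
        · exact Or.inr (by rw [mul_assoc]; exact (W φ).mul_mem hu hv)
        · refine Or.inr ?_
          have : u * v * C = u * C * (C * v * C⁻¹) := by
            rw [hCi, show u * C * (C * v * C) = u * (C * C) * v * C by group, hC2, mul_one]
          rw [this]; exact (W φ).mul_mem hu (hCW v hv)
        · refine Or.inl ?_
          have : u * v = u * C * (C * (v * C) * C⁻¹) := by
            rw [show u * C * (C * (v * C) * C⁻¹) = u * (C * C) * v by group, hC2, mul_one]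
          rw [this]; exact (W φ).mul_mem hu (hCW _ hv)
      inv_mem' := by
        rintro u (hu | hu)
        · exact Or.inl ((W φ).inv_mem hu)
        · refine Or.inr ?_
          have : u⁻¹ * C = C * (u * C)⁻¹ * C⁻¹ := by
            rw [mul_inv_rev, hCi, show C * (C * u⁻¹) * C = (C * C) * u⁻¹ * C by group, hC2, one_mul]
          rw [this]; exact hCW _ ((W φ).inv_mem hu) }
  let φS : S →* Spor.HN := φ.comp S.subtype
  have hSinj : Function.Injective φS := by
    rw [← MonoidHom.ker_eq_bot_iff, eq_bot_iff]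
    rintro ⟨u, hu⟩ hk
    have hk' : φ u = 1 := hk
    rcases hu with hu | hu
    · exact Subtype.ext (W_inj φ hsurj hcen hu hk')
    · exfalso
      have h1 : φ (u * C) ∈ G1.map toHN := by rw [← W_map φ hsurj hcen]; exact ⟨_, hu, rfl⟩
      rw [map_mul, hk', one_mul, hCz] at h1
      obtain ⟨g, hg, he'⟩ := h1
      have : g = Z := toHN_injective (by rw [he', toHN, liftF_Z])
      exact psi_Z_not_mem (map_G1 ▸ ⟨g, hg, by rw [this]⟩)
  let sA : S := ⟨A, Or.inl hA⟩
  let sB : S := ⟨B, Or.inl hB⟩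
  let sC : S := ⟨C, Or.inr (by rw [hC2]; exact (W φ).one_mem)⟩
  have hrS : Rels sA sB sC := by
    have h : Rels (φS sA) (φS sB) (φS sC) := by
      change Rels (φ A) (φ B) (φ C)
      rw [hAx, hBy, hCz]; exact rels_HN
    obtain ⟨h1, h2, h3, h4, h5, h6, h7, h8, h9, h10⟩ := h
    constructor
    all_goals refine hSinj ?_
    all_goals simp only [map_one, map_mul, map_pow, map_inv]
    all_goals assumption
  refine ⟨A, B, C, T, hAx, hBy, hCz, hφT, hrS.map S.subtype, hT5, ?_, ?_, hCT⟩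
  · rw [hAT, ← pow_add]; exact hT5
  · rw [show T⁻¹ * B⁻¹ * T * B = T⁻¹ * (B⁻¹ * T * B) by group, hBT, inv_mul_cancel]

theorem exists_section : ∃ σ : Spor.HN →* E, ∀ g, φ (σ g) = g := by
  obtain ⟨A, B, C, T, hA, hB, hC, hT, hr, h5, hx, hy, hz⟩ := exists_lift φ hsurj hcen
  obtain ⟨h1, h2, h3, h4, h5', h6, h7, h8, h9, h10⟩ := hr
  let f : Spor.HN.Gen → E := fun g => match g with | .x => A | .y => B | .z => C | .t => T
  have hrel : ∀ r ∈ (Spor.coxRelators Spor.HN.edges ∪ {r | r ∈ Spor.HN.extra} :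
      Set (FreeGroup Spor.HN.Gen)), FreeGroup.lift f r = 1 := by
    rintro r (⟨x, hx', -⟩ | hr)
    · simp [Spor.coxNodes, Spor.HN.edges] at hx'
    simp only [Set.mem_setOf_eq, Spor.HN.extra, List.mem_cons, List.not_mem_nil, or_false] at hr
    rcases hr with rfl | rfl | rfl | rfl | rfl | rfl | rfl | rfl | rfl | rfl | rfl | rfl | rfl | rfl <;>
      simp only [map_mul, map_pow, map_inv, FreeGroup.lift_apply_of, f] <;> assumption
  refine ⟨PresentedGroup.toGroup hrel, fun g => ?_⟩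
  have : φ.comp (PresentedGroup.toGroup hrel) = MonoidHom.id _ := PresentedGroup.ext fun i => by
    rw [MonoidHom.comp_apply, PresentedGroup.toGroup.of]
    cases i <;> simp [f, hA, hB, hC, hT]
  exact DFunLike.congr_fun this g

theorem ker_trivial (hder : φ.ker ≤ commutator E) : φ.ker = ⊥ := by
  obtain ⟨σ, hσ⟩ := exists_section φ hsurj hcen
  have hsplit : ∀ u : E, ∀ g, Commute (u * (σ (φ u))⁻¹) g := fun u g =>
    (Subgroup.mem_center_iff.1 (hcen (by rw [MonoidHom.mem_ker, map_mul, map_inv, hσ, mul_inv_cancel])) g).symm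
  have hcomm : commutator E ≤ σ.range := by
    rw [commutator_def]
    refine Subgroup.commutator_le.2 fun u _ v _ => ?_
    refine ⟨⁅φ u, φ v⁆, ?_⟩
    have hu := hsplit u
    have hv := hsplit v
    have eu : u = u * (σ (φ u))⁻¹ * σ (φ u) := (inv_mul_cancel_right _ _).symm
    have ev : v = v * (σ (φ v))⁻¹ * σ (φ v) := (inv_mul_cancel_right _ _).symm
    rw [map_commutatorElement]
    generalize u * (σ (φ u))⁻¹ = a at hu eu
    generalize v * (σ (φ v))⁻¹ = b at hv ev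
    generalize σ (φ u) = p at eu ⊢
    generalize σ (φ v) = q at ev ⊢
    subst eu ev
    exact (commutator_central hu hv p q).symm
  rw [eq_bot_iff]
  intro a ha
  obtain ⟨g, rfl⟩ := hcomm (hder ha)
  have := MonoidHom.mem_ker.1 ha
  rw [hσ] at this
  rw [this, map_one]
  exact Subgroup.one_mem _

end Ext

theorem multiplier_HN : HasCyclicSchurMultiplier Spor.HN 1 := by
  haveI : Finite Spor.HN := Nat.finite_of_card_ne_zero (by rw [CosetEnum.HNP.card_HN]; norm_num)
  refine ⟨⟨Spor.HN, inferInstance, inferInstance, MonoidHom.id _,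
    ⟨Function.surjective_id, by simp [MonoidHom.ker_id], by simp [MonoidHom.ker_id]⟩, ?_⟩, ?_⟩
  · haveI : Subsingleton (MonoidHom.id Spor.HN).ker := by rw [MonoidHom.ker_id]; infer_instance
    haveI : Subsingleton (Multiplicative (ZMod 1)) := inferInstanceAs (Subsingleton (ZMod 1))
    exact ⟨{ toFun := fun _ => 1, invFun := fun _ => 1, left_inv := fun _ => Subsingleton.elim _ _,
             right_inv := fun _ => Subsingleton.elim _ _, map_mul' := fun _ _ => Subsingleton.elim _ _ }⟩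
  · intro Γ _ _ σ hσ
    have h := ker_trivial σ hσ.1 hσ.2.1 hσ.2.2
    refine ⟨1, fun u => ⟨1, ?_⟩⟩
    have h' : ∀ v ∈ σ.ker, v = 1 := by rw [h]; intro v hv; exact Subgroup.mem_bot.1 hv
    have hu : (u : Γ) = 1 := h' u.1 u.2
    exact Subtype.ext hu.symm

end Cfsg.Agent.Lib.HNMult40
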